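import Mathlib

/-!
# Descent along faithfully flat morphisms that need not be quasi-compact
-/

set_option linter.style.haveILetI false

universe u

open CategoryTheory CategoryTheory.Limits AlgebraicGeometry Topology

namespace Groth.Agent.FpDesc70

theorem flat_fromSpecStalk {X : Scheme.{u}} (x : X) : Flat (X.fromSpecStalk x) := by
  obtain ⟨U, hU, hx, -⟩ := exists_isAffineOpen_mem_and_subset (x := x) (U := ⊤) trivial
  rw [← hU.fromSpecStalk_eq_fromSpecStalk hx, IsAffineOpen.fromSpecStalk]
  letI := TopCat.Presheaf.algebra_section_stalk X.presheaf (⟨x, hx⟩ : U)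
  haveI := hU.isLocalization_stalk ⟨x, hx⟩
  haveI : Flat (Spec.map (X.presheaf.germ U x hx)) := by
    rw [HasRingHomProperty.Spec_iff (P := @Flat), RingHom.Flat]
    exact IsLocalization.flat (X.presheaf.stalk x) (hU.primeIdealOf ⟨x, hx⟩).asIdeal.primeCompl
  infer_instance

theorem injective_of_flat_isLocalHom {R S : Type u} [CommRing R] [CommRing S] [IsLocalRing R] [IsLocalRing S]
    (f : R →+* S) [IsLocalHom f] (h : f.Flat) : Function.Injective f := by
  letI := f.toAlgebra
  haveI : Module.Flat R S := h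
  haveI : IsLocalHom (algebraMap R S) := ‹_›
  haveI : Module.FaithfullyFlat R S := Module.FaithfullyFlat.of_flat_of_isLocalHom
  exact FaithfulSMul.algebraMap_injective R S

/-- A quasi-compact morphism which is a homeomorphism after a faithfully flat base change is one. -/
theorem isHomeomorph_of_baseChange {X Y Y' : Scheme.{u}} (f : X ⟶ Y) (g : Y' ⟶ Y)
    [Flat g] [Surjective g] [QuasiCompact f] (h : IsHomeomorph (pullback.snd f g).base) :
    IsHomeomorph f.base := by
  have hbij : Function.Bijective f := by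
    refine ⟨fun x₁ x₂ he => ?_, fun y => ?_⟩
    · obtain ⟨y', hy'⟩ := g.surjective (f x₁)
      obtain ⟨w₁, a₁, b₁⟩ := Scheme.Pullback.exists_preimage_pullback x₁ y' hy'.symm
      obtain ⟨w₂, a₂, b₂⟩ := Scheme.Pullback.exists_preimage_pullback x₂ y' (he.symm.trans hy'.symm)
      rw [← a₁, ← a₂, h.bijective.1 (b₁.trans b₂.symm)]
    · obtain ⟨y', rfl⟩ := g.surjective y
      obtain ⟨w, hw⟩ := h.bijective.2 y'
      refine ⟨pullback.fst f g w, ?_⟩
      rw [← Scheme.Hom.comp_apply, pullback.condition, Scheme.Hom.comp_apply]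
      exact congrArg g hw
  refine isHomeomorph_iff_continuous_isClosedMap_bijective.mpr ⟨f.continuous, ?_, hbij⟩
  refine (isClosedMap_iff_specializingMap f).mpr fun x y hxy => ?_
  obtain ⟨y', hy'⟩ := g.surjective y
  obtain ⟨y₁, hy₁, hgy₁⟩ := Flat.generalizingMap (f := g) (a := y') (b := f x) (hy' ▸ hxy)
  obtain ⟨w, hw1, hw2⟩ := Scheme.Pullback.exists_preimage_pullback x y₁ hgy₁.symm
  obtain ⟨w', hw', hw'2⟩ := h.isClosedMap.specializingMap (a := w) (b := y')
    (show (pullback.snd f g) w ⤳ y' by rw [hw2]; exact hy₁)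
  refine ⟨pullback.fst f g w', hw1 ▸ Specializes.map hw' (pullback.fst f g).continuous, ?_⟩
  rw [← Scheme.Hom.comp_apply, pullback.condition, Scheme.Hom.comp_apply]
  exact (congrArg g hw'2).trans hy'

/-- A quasi-compact morphism which is an isomorphism after a faithfully flat base change is one. -/
theorem isIso_of_baseChange {X Y Y' : Scheme.{u}} (f : X ⟶ Y) (g : Y' ⟶ Y)
    [Flat g] [Surjective g] [QuasiCompact f] [IsIso (pullback.snd f g)] : IsIso f := by
  have hhomeo := isHomeomorph_of_baseChange f g (pullback.snd f g).homeomorph.isHomeomorph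
  have hst : ∀ x, IsIso (f.stalkMap x) := by
    intro x
    obtain ⟨y', hy'⟩ := g.surjective (f x)
    let κ := Y.fromSpecStalk (f x)
    let ν := Y'.fromSpecStalk y'
    let φ : Spec (Y'.presheaf.stalk y') ⟶ Spec (Y.presheaf.stalk (f x)) :=
      Spec.map ((Y.presheaf.stalkCongr (.of_eq hy'.symm)).hom ≫ g.stalkMap y')
    have hφ : φ ≫ κ = ν ≫ g := by
      rw [← Scheme.SpecMap_stalkMap_fromSpecStalk]
      simp only [φ, κ, ν, Spec.map_comp, Category.assoc, TopCat.Presheaf.stalkCongr, Scheme.SpecMap_stalkSpecializes_fromSpecStalk]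
    haveI : Flat κ := flat_fromSpecStalk (f x)
    haveI : Surjective φ := by
      letI := ((Y.presheaf.stalkCongr (.of_eq hy'.symm)).hom ≫ g.stalkMap y').hom.toAlgebra
      haveI : IsLocalHom ((Y.presheaf.stalkCongr (.of_eq hy'.symm)).hom ≫ g.stalkMap y').hom := by
        rw [CommRingCat.hom_comp]; infer_instance
      haveI hflat : ((Y.presheaf.stalkCongr (.of_eq hy'.symm)).hom ≫ g.stalkMap y').hom.Flat := by
        rw [CommRingCat.hom_comp]
        exact RingHom.Flat.comp (RingHom.Flat.of_bijective
          (ConcreteCategory.bijective_of_isIso (Y.presheaf.stalkCongr (.of_eq hy'.symm)).hom))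
          (Flat.stalkMap g y')
      haveI : Module.Flat (Y.presheaf.stalk (f x)) (Y'.presheaf.stalk y') := hflat
      haveI : IsLocalHom (algebraMap (Y.presheaf.stalk (f x)) (Y'.presheaf.stalk y')) := ‹_›
      haveI : Module.FaithfullyFlat (Y.presheaf.stalk (f x)) (Y'.presheaf.stalk y') :=
        Module.FaithfullyFlat.of_flat_of_isLocalHom
      exact ⟨PrimeSpectrum.comap_surjective_of_faithfullyFlat⟩
    haveI : Flat φ := by
      rw [HasRingHomProperty.Spec_iff (P := @Flat), CommRingCat.hom_comp]
      exact RingHom.Flat.comp (RingHom.Flat.of_bijective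
        (ConcreteCategory.bijective_of_isIso (Y.presheaf.stalkCongr (.of_eq hy'.symm)).hom))
        (Flat.stalkMap g y')
    haveI : IsIso (pullback.snd (pullback.snd f κ) φ) := by
      have hbig : IsPullback (pullback.fst (pullback.snd f κ) φ ≫ pullback.fst f κ)
          (pullback.snd (pullback.snd f κ) φ) f (ν ≫ g) :=
        hφ ▸ (IsPullback.of_hasPullback _ φ).paste_horiz (IsPullback.of_hasPullback f κ)
      let l := pullback.lift (pullback.fst (pullback.snd f κ) φ ≫ pullback.fst f κ)
        (pullback.snd (pullback.snd f κ) φ ≫ ν) (hbig.w.trans (Category.assoc _ _ _).symm)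
      have hsq : IsPullback l (pullback.snd (pullback.snd f κ) φ) (pullback.snd f g) ν := by
        refine IsPullback.of_right (h₁₂ := pullback.fst f g) (by rw [pullback.lift_fst]; exact hbig)
          (pullback.lift_snd _ _ _) (IsPullback.of_hasPullback f g)
      exact hsq.isIso_snd_of_isIso
    haveI : IsIso (pullback.snd f κ) :=
      MorphismProperty.of_pullback_snd_of_descendsAlong (P := MorphismProperty.isomorphisms Scheme)
        (Q := @Surjective ⊓ @Flat ⊓ @QuasiCompact) (g := φ) ⟨⟨‹_›, ‹_›⟩, inferInstance⟩ ‹_›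
    obtain ⟨w, hw, -⟩ := Scheme.Pullback.exists_preimage_pullback (f := f) (g := κ) x
      (IsLocalRing.closedPoint (Y.presheaf.stalk (f x))) Scheme.fromSpecStalk_closedPoint.symm
    rw [← hw]
    haveI : Flat (pullback.fst f κ) := inferInstance
    let p := pullback.fst f κ
    rw [ConcreteCategory.isIso_iff_bijective]
    have hcomp : (f.stalkMap (p w) ≫ p.stalkMap w) =
        (Y.presheaf.stalkCongr (.of_eq (show f (p w) = κ ((pullback.snd f κ) w) from
          congrArg (fun k : pullback f κ ⟶ Y => k w) pullback.condition))).hom ≫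
          κ.stalkMap ((pullback.snd f κ) w) ≫ (pullback.snd f κ).stalkMap w := by
      rw [← Scheme.Hom.stalkMap_comp, ← Scheme.Hom.stalkMap_comp]
      exact Scheme.Hom.stalkMap_congr_hom _ _ pullback.condition w
    have hκbij : Function.Bijective (κ.stalkMap ((pullback.snd f κ) w)).hom :=
      ⟨injective_of_flat_isLocalHom _ (Flat.stalkMap κ _), κ.stalkMap_surjective _⟩
    have hb : Function.Bijective (f.stalkMap (p w) ≫ p.stalkMap w).hom := by
      rw [hcomp, CommRingCat.hom_comp, CommRingCat.hom_comp]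
      exact ((ConcreteCategory.bijective_of_isIso ((pullback.snd f κ).stalkMap w)).comp hκbij).comp
        (ConcreteCategory.bijective_of_isIso _)
    rw [CommRingCat.hom_comp, RingHom.coe_comp] at hb
    refine ⟨hb.1.of_comp, fun a => ?_⟩
    obtain ⟨b, hb'⟩ := hb.2 ((p.stalkMap w).hom a)
    exact ⟨b, injective_of_flat_isLocalHom _ (Flat.stalkMap p w) hb'⟩
  haveI : IsIso f.base := TopCat.isIso_of_bijective_of_isOpenMap _ hhomeo.bijective hhomeo.isOpenMap
  haveI := fun x => hst x
  haveI : IsOpenImmersion f := IsOpenImmersion.of_isIso_stalkMap f hhomeo.isOpenEmbedding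
  haveI : Surjective f := ⟨hhomeo.surjective⟩
  exact isIso_iff_isOpenImmersion_and_surjective f |>.mpr ⟨‹_›, ‹_›⟩

end Groth.Agent.FpDesc70
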