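import Groth.Agent.FpDesc70.Basic

/-!
# Descent of affineness along faithfully flat morphisms that need not be quasi-compact
-/

set_option linter.style.haveILetI false

universe u

open CategoryTheory CategoryTheory.Limits AlgebraicGeometry Topology

namespace Groth.Agent.FpDesc70

theorem isIso_eqToHom' {C : Type*} [Category C] {A B : C} (h : A = B) : IsIso (eqToHom h) := by
  subst h; rw [eqToHom_refl]; infer_instance

theorem bijective_of_isPushout {A B B₁ C D D₁ : CommRingCat.{u}} {a : A ⟶ B} {a₁ : A ⟶ B₁} {b : A ⟶ C}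
    {c : B ⟶ D} {c₁ : B₁ ⟶ D₁} {e : C ⟶ D} {e₁ : C ⟶ D₁} (h : IsPushout a b c e)
    (h₁ : IsPushout a₁ b c₁ e₁) (θ : B₁ ⟶ B) [IsIso θ] (hθ : a₁ ≫ θ = a) (φ : D₁ ⟶ D)
    (h2 : c₁ ≫ φ = θ ≫ c) (h3 : e₁ ≫ φ = e) : Function.Bijective φ.hom := by
  haveI : IsIso φ := by
    refine ⟨h.desc (inv θ ≫ c₁) e₁ ?_, h₁.hom_ext ?_ ?_, h.hom_ext ?_ ?_⟩
    · rw [← hθ, Category.assoc, IsIso.hom_inv_id_assoc]; exact h₁.w
    · rw [Category.comp_id, ← Category.assoc, h2, Category.assoc, h.inl_desc, IsIso.hom_inv_id_assoc]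
    · rw [Category.comp_id, ← Category.assoc, h3, h.inr_desc]
    · rw [h.inl_desc_assoc, Category.assoc, h2, IsIso.inv_hom_id_assoc, Category.comp_id]
    · rw [h.inr_desc_assoc, h3, Category.comp_id]
  exact ConcreteCategory.bijective_of_isIso φ

theorem isAffine_of_baseChange {X Y Y' : Scheme.{u}} [IsAffine Y] (f : X ⟶ Y) (g : Y' ⟶ Y)
    [Flat g] [Surjective g] [QuasiCompact f] [QuasiSeparated f] [IsAffineHom (pullback.snd f g)] :
    IsAffine X := by
  haveI : CompactSpace X := QuasiCompact.compactSpace_of_compactSpace f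
  haveI : QuasiSeparatedSpace X := quasiSeparatedSpace_of_quasiSeparated f
  let π : Spec Γ(X, ⊤) ⟶ Y := Spec.map f.appTop ≫ Y.isoSpec.inv
  have hπ : X.toSpecΓ ≫ π = f := by
    rw [← Category.assoc, ← Scheme.toSpecΓ_naturality, Category.assoc, ← Scheme.isoSpec_hom,
      Iso.hom_inv_id, Category.comp_id]
  let h : X ⟶ Spec Γ(X, ⊤) := X.toSpecΓ
  haveI : QuasiCompact h := by
    haveI : QuasiCompact (h ≫ π) := by rw [hπ]; infer_instance
    exact QuasiCompact.of_comp h π
  let g' := pullback.fst π g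
  let b := pullback.snd π g
  let q := pullback.snd h g'
  haveI hiso : IsIso q := by
    have hbig : IsPullback (pullback.fst h g') (q ≫ b) f g :=
      hπ ▸ (IsPullback.of_hasPullback h g').paste_vert (IsPullback.of_hasPullback π g)
    haveI haff : IsAffineHom (q ≫ b) := by
      rw [← hbig.isoPullback_hom_snd]
      infer_instance
    haveI : IsAffineHom π := isAffineHom_of_isAffine _
    haveI : IsAffineHom b := MorphismProperty.pullback_snd _ _ ‹_›
    change MorphismProperty.isomorphisms Scheme q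
    have hcov : ∀ z, ∃ U : Y'.Opens, IsAffineOpen U ∧ b z ∈ U := fun z => by
      obtain ⟨U, hU, hz, -⟩ := exists_isAffineOpen_mem_and_subset (x := b z) (U := ⊤) trivial
      exact ⟨U, hU, hz⟩
    choose U hU hzU using hcov
    rw [HasAffineProperty.iff_of_iSup_eq_top (P := MorphismProperty.isomorphisms Scheme)
      fun z => (⟨b ⁻¹ᵁ U z, (hU z).preimage b⟩ : (pullback π g).affineOpens)]
    swap
    · exact top_le_iff.mp fun z _ => TopologicalSpace.Opens.mem_iSup.mpr ⟨z, hzU z⟩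
    intro z
    refine ⟨(Scheme.Hom.comp_preimage q b (U z)) ▸ ((hU z).preimage (q ≫ b)), ?_⟩
    let UT := U z
    have hUZ : b ⁻¹ᵁ UT = g' ⁻¹ᵁ ⊤ ⊓ b ⁻¹ᵁ UT := by simp
    have hUX : q ⁻¹ᵁ (b ⁻¹ᵁ UT) = pullback.fst h g' ⁻¹ᵁ ⊤ ⊓ (q ≫ b) ⁻¹ᵁ UT := by simp
    haveI i1 := isIso_pushoutSection_of_isAffineOpen (IsPullback.of_hasPullback π g) (US := ⊤)
      (UT := UT) (UX := ⊤) le_top le_top hUZ (isAffineOpen_top Y) (hU z) (isAffineOpen_top _)
    haveI i2 := isIso_pushoutSection_of_isQuasiSeparated_of_flat_right hbig (US := ⊤)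
      (UT := UT) (UX := ⊤) le_top le_top hUX (isAffineOpen_top Y) (hU z) CompactSpace.isCompact_univ
      (by simpa using isQuasiSeparated_univ_iff.mpr (inferInstanceAs (QuasiSeparatedSpace X)))
    have h1 := (isIso_pushoutSection_iff (IsPullback.of_hasPullback π g) le_top le_top hUZ).mp i1
    have h2 := (isIso_pushoutSection_iff hbig le_top le_top hUX).mp i2
    have key : Function.Bijective (q.app (b ⁻¹ᵁ UT)).hom := by
      rw [Scheme.Hom.app_eq_appLE]
      haveI : IsIso (h.appLE ⊤ ⊤ le_top) := by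
        have e : h.appLE ⊤ ⊤ le_top = h.appTop := by
          rw [Scheme.Hom.appTop, Scheme.Hom.app_eq_appLE]; rfl
        rw [e, Scheme.toSpecΓ_appTop]
        infer_instance
      refine bijective_of_isPushout h2 h1 (h.appLE ⊤ ⊤ le_top) ?_ _ ?_ ?_
      · rw [Scheme.Hom.appLE_comp_appLE]; simp only [h, hπ]
      · simp only [Scheme.Hom.appLE_comp_appLE, q, g', pullback.condition]
      · rw [Scheme.Hom.appLE_comp_appLE]
    rw [morphismRestrict_appTop]
    have key' : Function.Bijective (q.app ((b ⁻¹ᵁ UT).ι ''ᵁ ⊤)).hom := by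
      have e := (b ⁻¹ᵁ UT).ι_image_top
      revert e
      generalize (b ⁻¹ᵁ UT).ι ''ᵁ ⊤ = W
      rintro rfl
      exact key
    haveI : IsIso (q.app ((b ⁻¹ᵁ UT).ι ''ᵁ ⊤)) :=
      (ConcreteCategory.isIso_iff_bijective _).mpr key'
    exact IsIso.comp_isIso' this (by rw [eqToHom_op, eqToHom_map]; apply isIso_eqToHom')
  haveI := isIso_of_baseChange h g'
  exact IsAffine.of_isIso h

/-- Affineness descends along faithfully flat morphisms for qcqs morphisms. -/
theorem isAffineHom_of_baseChange {X Y Y' : Scheme.{u}} (f : X ⟶ Y) (g : Y' ⟶ Y)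
    [Flat g] [Surjective g] [QuasiCompact f] [QuasiSeparated f] [IsAffineHom (pullback.snd f g)] :
    IsAffineHom f := by
  refine ⟨fun V hV => ?_⟩
  haveI : IsAffine V.toScheme := hV
  haveI : IsAffineHom (pullback.snd (f ∣_ V) (g ∣_ V)) := by
    let l := pullback.lift (pullback.fst (f ∣_ V) (g ∣_ V) ≫ (f ⁻¹ᵁ V).ι)
      (pullback.snd (f ∣_ V) (g ∣_ V) ≫ (g ⁻¹ᵁ V).ι) (f := f) (g := g) (by
        rw [Category.assoc, Category.assoc, ← morphismRestrict_ι, ← morphismRestrict_ι,
          pullback.condition_assoc])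
    have hsq : IsPullback l (pullback.snd (f ∣_ V) (g ∣_ V)) (pullback.snd f g) (g ⁻¹ᵁ V).ι := by
      have hbig : IsPullback (pullback.fst (f ∣_ V) (g ∣_ V) ≫ (f ⁻¹ᵁ V).ι)
          (pullback.snd (f ∣_ V) (g ∣_ V)) f ((g ⁻¹ᵁ V).ι ≫ g) := by
        rw [← morphismRestrict_ι]
        exact (IsPullback.of_hasPullback _ _).paste_horiz (isPullback_morphismRestrict f V).flip
      exact IsPullback.of_right (h₁₂ := pullback.fst f g) (by rw [pullback.lift_fst]; exact hbig)
        (pullback.lift_snd _ _ _) (IsPullback.of_hasPullback f g)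
    exact MorphismProperty.of_isPullback (P := @IsAffineHom) hsq ‹_›
  haveI : Flat (g ∣_ V) := inferInstance
  haveI : Surjective (g ∣_ V) := IsZariskiLocalAtTarget.restrict ‹Surjective g› V
  exact isAffine_of_baseChange (f ∣_ V) (g ∣_ V)

end Groth.Agent.FpDesc70
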